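import Groth.Agent.AdeqCoh.Affine
import Groth.Agent.RedPts.Basic
import Groth.Prelude.Def_CGrpSh2
import Mathlib.Algebra.Homology.DerivedCategory.Ext.ExactSequences

/-! The additive group has no higher fppf cohomology on affine schemes. -/

set_option autoImplicit false
set_option backward.isDefEq.respectTransparency false

universe u

open CategoryTheory CategoryTheory.Limits AlgebraicGeometry Opposite MonObj
open scoped TensorProduct
open CategoryTheory.Abelian (Ext)

noncomputable section

namespace Groth.Agent.GaFppf87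

local notation "Kf" => Scheme.fppfPrecoverage

theorem adequate_underline {A : Type u} [CommRing A] (M : ModuleCat.{u + 1} A) :
    Adeq.adequate A ((Adeq.underline A).obj M) :=
  ⟨M, M, 0, ⟨(kernelZeroIsoSource).symm ≪≫ kernelIsoOfEq ((Adeq.underline A).map_zero M M).symm⟩⟩

section Unit

variable {S : Scheme.{u}} {R : CommRingCat.{u}} (a : Spec R ⟶ S)

/-- `B ⊗ R → O(Spec B)`. -/
def unitComp (X : (Adeq.Alg R)ᵒᵖᵒᵖ) :
    ((Adeq.underline R).obj (ModuleCat.of R (ULift.{u + 1} R))).obj X →+
      ((Adeq.toMVF Kf a).obj (BigSite.unitMod Kf S)).obj X :=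
  (Adeq.toSect Kf a X.unop.unop).toAddMonoidHom.comp
    ((TensorProduct.rid R (X.unop.unop : Type u)).toAddMonoidHom.comp
      (LinearMap.lTensor (X.unop.unop : Type u) (ULift.moduleEquiv : ULift.{u + 1} R ≃ₗ[R] R).toLinearMap).toAddMonoidHom)

theorem unitComp_tmul (X : (Adeq.Alg R)ᵒᵖᵒᵖ) (b : (X.unop.unop : Type u)) (r : ULift.{u + 1} R) :
    unitComp a X (b ⊗ₜ[R] r) = Adeq.toSect Kf a X.unop.unop (r.down • b) := rfl

theorem unitComp_bijective (X : (Adeq.Alg R)ᵒᵖᵒᵖ) : Function.Bijective (unitComp a X) := by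
  have h1 : Function.Bijective (Adeq.toSect Kf a X.unop.unop) := by
    show Function.Bijective ((ULift.ringEquiv.symm : Γ(Spec (CommRingCat.of (X.unop.unop : Type u)), ⊤) ≃+* _) ∘
      (Scheme.ΓSpecIso (CommRingCat.of (X.unop.unop : Type u))).inv.hom)
    refine Function.Bijective.comp (RingEquiv.bijective _) ?_
    exact (Scheme.ΓSpecIso (CommRingCat.of (X.unop.unop : Type u))).commRingCatIsoToRingEquiv.symm.bijective
  exact h1.comp ((TensorProduct.rid R (X.unop.unop : Type u)).bijective.comp
    (LinearEquiv.lTensor (X.unop.unop : Type u) (ULift.moduleEquiv : ULift.{u + 1} R ≃ₗ[R] R)).bijective)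

theorem toSect_natural {X Y : (Adeq.Alg R)ᵒᵖᵒᵖ} (f : X ⟶ Y) (b : (X.unop.unop : Type u)) :
    Adeq.toSect Kf a Y.unop.unop (f.unop.unop.hom b) =
      (BigSite.ORing Kf S).obj.map ((Adeq.specOver a).map f.unop).op (Adeq.toSect Kf a X.unop.unop b) := by
  apply ULift.ext
  change (CommRingCat.ofHom f.unop.unop.hom.toRingHom ≫ (Scheme.ΓSpecIso (CommRingCat.of Y.unop.unop)).inv) b =
    ((Scheme.ΓSpecIso (CommRingCat.of X.unop.unop)).inv ≫
        (Spec.map (CommRingCat.ofHom f.unop.unop.hom.toRingHom)).appTop) b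
  rw [Scheme.ΓSpecIso_inv_naturality]

/-- The structure sheaf on affine objects is `B ↦ B ⊗ R`. -/
def unitHom : (Adeq.underline R).obj (ModuleCat.of R (ULift.{u + 1} R)) ⟶
    (Adeq.toMVF Kf a).obj (BigSite.unitMod Kf S) :=
  PresheafOfModules.homMk
    { app := fun X => AddCommGrpCat.ofHom (unitComp a X)
      naturality := fun X Y f => by
        refine AddCommGrpCat.ext fun x => ?_
        induction x using TensorProduct.induction_on with
        | zero => simp only [map_zero]
        | tmul b r =>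
          refine (unitComp_tmul a Y _ r).trans ?_
          refine (congrArg (Adeq.toSect Kf a Y.unop.unop) (map_smul f.unop.unop.hom r.down b).symm).trans ?_
          exact (toSect_natural a f _).trans
            (congrArg ((BigSite.ORing Kf S).obj.map ((Adeq.specOver a).map f.unop).op) (unitComp_tmul a X b r).symm)
        | add x y hx hy => simp only [map_add, hx, hy] }
    (by
      intro X b m
      induction m using TensorProduct.induction_on with
      | zero =>
        rw [smul_zero]
        exact (map_zero (unitComp a X)).trans ((smul_zero _).symm.trans (congrArg (b • ·) (map_zero (unitComp a X)).symm))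
      | tmul c r =>
        change unitComp a X ((b * c) ⊗ₜ[R] r) = Adeq.toSect Kf a X.unop.unop b *
          (show (BigSite.ORing Kf S).obj.obj (op ((Adeq.specOver a).obj (op X.unop.unop))) from unitComp a X (c ⊗ₜ[R] r))
        rw [unitComp_tmul, unitComp_tmul, ← map_mul, mul_smul_comm]
      | add x y hx hy =>
        rw [smul_add]
        exact (map_add (unitComp a X) _ _).trans ((congrArg₂ (· + ·) hx hy).trans
          ((smul_add _ _ _).symm.trans (congrArg (b • ·) (map_add (unitComp a X) x y).symm))))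

theorem adequate_toMVF_unit : Adeq.adequate R ((Adeq.toMVF Kf a).obj (BigSite.unitMod Kf S)) := by
  haveI : IsIso ((PresheafOfModules.toPresheaf _).map (unitHom a)) := by
    haveI : ∀ X, IsIso (((PresheafOfModules.toPresheaf _).map (unitHom a)).app X) := fun X =>
      (ConcreteCategory.isIso_iff_bijective _).2 (unitComp_bijective a X)
    exact NatIso.isIso_of_isIso_app _
  haveI : IsIso (unitHom a) := isIso_of_reflects_iso _ (PresheafOfModules.toPresheaf _)
  exact (Adeq.adequate R).prop_of_iso (asIso (unitHom a)) (adequate_underline _)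

end Unit

theorem adequateMod_unit (X : Scheme.{u}) [IsAffine X] : Adeq.adequateMod Kf X (BigSite.unitMod Kf X) :=
  ⟨PUnit, fun _ => Γ(X, ⊤), fun _ => X.isoSpec.inv, by
    rw [Presieve.ofArrows_pUnit]
    exact Scheme.Hom.singleton_mem_fppfPrecoverage _, fun _ => adequate_toMVF_unit _⟩

section Ga

variable (X : Scheme.{u})

/-- The additive group as the structure sheaf. -/
def gaIso : CGrpSh2.Ga Kf X ≅ (BigSite.toAbMod Kf X).obj (BigSite.unitMod Kf X) :=
  (sheafToPresheaf _ _).preimageIso <| NatIso.ofComponents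
    (fun T => AddEquiv.toAddCommGrpIso
      (AddEquiv.mk' ((Equiv.ofBijective (fun x : ULift.{u + 1} (Additive (unop T ⟶ Red.Ga X)) =>
          (ULift.up (Red.gaFn x.down.toMul) : ULift.{u + 1} Γ((unop T).left, ⊤)))
        (Equiv.ulift.symm.bijective.comp ((Function.Bijective.comp ⟨RedPts.ga_injective, RedPts.ga_surjective⟩
          (Equiv.ulift.trans Additive.toMul).bijective)))))
        (fun x y => ULift.ext _ _ (RedPts.ga_mul x.down.toMul y.down.toMul))))
    (fun {T T'} f => AddCommGrpCat.ext fun x => ULift.ext _ _ (RedPts.ga_comp f.unop x.down.toMul))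

theorem subsingleton_H_Ga [IsAffine X] (i : ℕ) (hi : 0 < i) :
    Subsingleton (BigSite.H Kf X (CGrpSh2.Ga Kf X) i) := by
  have := AdeqCoh.vanish i X (BigSite.unitMod Kf X) (adequateMod_unit X) i hi le_rfl
  refine ⟨fun x y => ?_⟩
  have e : ∀ z : BigSite.H Kf X (CGrpSh2.Ga Kf X) i, z = 0 := fun z => by
    have h1 : z.comp (Ext.mk₀ (gaIso X).hom) (add_zero i) = 0 := this.elim _ _
    calc z = z.comp (Ext.mk₀ ((gaIso X).hom ≫ (gaIso X).inv)) (add_zero i) := by
            rw [Iso.hom_inv_id, Ext.comp_mk₀_id]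
      _ = (z.comp (Ext.mk₀ (gaIso X).hom) (add_zero i)).comp (Ext.mk₀ (gaIso X).inv) (add_zero i) := by
            rw [← Ext.mk₀_comp_mk₀, Ext.comp_assoc_of_third_deg_zero]
      _ = 0 := by rw [h1, Ext.zero_comp]
  rw [e x, e y]

end Ga

theorem subsingleton_H_of_shortExact {X : Scheme.{u}} {C : ShortComplex (BigSite.Ab Kf X)} (hC : C.ShortExact) (i : ℕ)
    (h₁ : Subsingleton (BigSite.H Kf X C.X₁ i)) (h₃ : Subsingleton (BigSite.H Kf X C.X₃ i)) :
    Subsingleton (BigSite.H Kf X C.X₂ i) := by
  refine subsingleton_of_forall_eq 0 fun x => ?_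
  obtain ⟨y, rfl⟩ := Ext.covariant_sequence_exact₂ _ hC x (h₃.elim _ _)
  rw [h₁.elim y 0, Ext.zero_comp]

theorem subsingleton_H_of_isZero {X : Scheme.{u}} {F : BigSite.Ab Kf X} (hF : IsZero F) (i : ℕ) :
    Subsingleton (BigSite.H Kf X F i) := by
  refine subsingleton_of_forall_eq 0 fun x => ?_
  rw [← Ext.comp_mk₀_id x, hF.eq_of_src (𝟙 F) 0, Ext.mk₀_zero, Ext.comp_zero]

end Groth.Agent.GaFppf87
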